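import Mathlib.Init
set_option autoImplicit false
set_option maxRecDepth 100000
set_option linter.all false
namespace H64.TCHSD
noncomputable def T_c_0 (i : Nat) : Nat := Nat.land (Nat.shiftRight (nat_lit 0x13e4605) (Nat.mul (nat_lit 5) (Nat.land i (nat_lit 4095)))) (nat_lit 31)
noncomputable abbrev T_c : Nat → Nat := T_c_0
noncomputable def T_ci_0 (i : Nat) : Nat := Nat.land (Nat.shiftRight (nat_lit 0x18bb16a) (Nat.mul (nat_lit 5) (Nat.land i (nat_lit 4095)))) (nat_lit 31)
noncomputable abbrev T_ci : Nat → Nat := T_ci_0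
noncomputable def T_b_0 (i : Nat) : Nat := Nat.land (Nat.shiftRight (nat_lit 0x248061) (Nat.mul (nat_lit 5) (Nat.land i (nat_lit 4095)))) (nat_lit 31)
noncomputable abbrev T_b : Nat → Nat := T_b_0
noncomputable def T_bi_0 (i : Nat) : Nat := Nat.land (Nat.shiftRight (nat_lit 0xd09002) (Nat.mul (nat_lit 5) (Nat.land i (nat_lit 4095)))) (nat_lit 31)
noncomputable abbrev T_bi : Nat → Nat := T_bi_0
noncomputable def P_0 (i : Nat) : Nat := Nat.land (Nat.shiftRight (nat_lit 0x23483080) (Nat.mul (nat_lit 6) (Nat.land i (nat_lit 4095)))) (nat_lit 63)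
noncomputable abbrev P : Nat → Nat := P_0
noncomputable def MG_0 (i : Nat) : Nat := Nat.land (Nat.shiftRight (nat_lit 0x1ffffff) (Nat.mul (nat_lit 5) (Nat.land i (nat_lit 4095)))) (nat_lit 31)
noncomputable abbrev MG : Nat → Nat := MG_0
noncomputable def RS_0 (i : Nat) : Nat := Nat.land (Nat.shiftRight (nat_lit 0x21021210012010100001) (Nat.mul (nat_lit 16) (Nat.land i (nat_lit 2047)))) (nat_lit 65535)
noncomputable abbrev RS : Nat → Nat := RS_0
noncomputable def MR_0 (i : Nat) : Nat := Nat.land (Nat.shiftRight (nat_lit 0x0) (Nat.mul (nat_lit 1) (Nat.land i (nat_lit 32767)))) (nat_lit 1)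
noncomputable abbrev MR : Nat → Nat := MR_0
/-- number of nodes -/
abbrev M : Nat := 5
/-- absent threshold -/
abbrev A : Nat := 31
end H64.TCHSD
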